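import Mathlib

/-!
# SUZ2-[NT-FOUR] (helper85's sheet SUZ2_SHEET.md, S3776/S3797): helper50

`m e = 2^n - 1`, `e ∣ n`: the only relation `2^j + 2^s' ≡ 2^((s+j) % n) + 1 (mod m)` with `0 < s, s' < n`, `j < n` is the
trivial one (`j = 0`, `s = s'`).  Method of the sheet: rotate the four exponents on the `n`-cycle so that a gap
`≥ n/4` is at the top, then compare sizes; finite check for `n ≤ 8` and for the bound on `e` when `n ≤ 20`.
-/

set_option autoImplicit false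

namespace Cfsg.Agent.Lib.Helper50.Suz2

/-- rotation of the exponent `x` bringing `P` to `0` on the `n`-cycle -/
def rot (n P x : ℕ) : ℕ := if P ≤ x then x - P else x + n - P

theorem gap4 (n a b c : ℕ) (ha : a < n) (hb : b < n) (hc : c < n) :
    ∃ P, P < n ∧ 4 * rot n P 0 ≤ 3 * n ∧ 4 * rot n P a ≤ 3 * n ∧ 4 * rot n P b ≤ 3 * n ∧
      4 * rot n P c ≤ 3 * n := by
  unfold rot
  by_cases h0 : 4 * a ≤ 3 * n ∧ 4 * b ≤ 3 * n ∧ 4 * c ≤ 3 * n
  · exact ⟨0, by omega, by simp, by simpa using h0.1, by simpa using h0.2.1, by simpa using h0.2.2⟩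
  by_cases h1 : (4 * (if a ≤ 0 then 0 - a else 0 + n - a) ≤ 3 * n) ∧
      (4 * (if a ≤ b then b - a else b + n - a) ≤ 3 * n) ∧
      (4 * (if a ≤ c then c - a else c + n - a) ≤ 3 * n)
  · exact ⟨a, ha, h1.1, by simp, h1.2.1, h1.2.2⟩
  by_cases h2 : (4 * (if b ≤ 0 then 0 - b else 0 + n - b) ≤ 3 * n) ∧
      (4 * (if b ≤ a then a - b else a + n - b) ≤ 3 * n) ∧
      (4 * (if b ≤ c then c - b else c + n - b) ≤ 3 * n)
  · exact ⟨b, hb, h2.1, h2.2.1, by simp, h2.2.2⟩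
  have h3 : (4 * (if c ≤ 0 then 0 - c else 0 + n - c) ≤ 3 * n) ∧
      (4 * (if c ≤ a then a - c else a + n - c) ≤ 3 * n) ∧
      (4 * (if c ≤ b then b - c else b + n - c) ≤ 3 * n) := by
    split_ifs at h1 h2 ⊢ <;> omega
  exact ⟨c, hc, h3.1, h3.2.1, h3.2.2, by simp⟩

theorem rot_dvd (n P x : ℕ) (hP : P < n) :
    ((2 : ℤ) ^ n - 1) ∣ 2 ^ (n - P) * 2 ^ x - 2 ^ rot n P x := by
  unfold rot
  split_ifs with h
  · have e1 : n - P + x = (x - P) + n := by omega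
    have : (2 : ℤ) ^ (n - P) * 2 ^ x - 2 ^ (x - P) = 2 ^ (x - P) * (2 ^ n - 1) := by
      rw [← pow_add, e1, pow_add]; ring
    rw [this]
    exact dvd_mul_left _ _
  · have e1 : n - P + x = x + n - P := by omega
    rw [← pow_add, e1, sub_self]
    exact dvd_zero _

theorem rot_inj (n P x x' : ℕ) (hP : P < n) (hx : x < n) (hx' : x' < n)
    (h : rot n P x = rot n P x') : x = x' := by
  unfold rot at h
  split_ifs at h <;> omega

theorem two_pow_sum_sorted (a b c d : ℕ) (hab : a ≤ b) (hcd : c ≤ d)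
    (h : 2 ^ a + 2 ^ b = 2 ^ c + 2 ^ d) : a = c ∧ b = d := by
  have hbd : b = d := by
    rcases lt_trichotomy b d with hlt | heq | hgt
    · exfalso
      have h1 : 2 ^ a ≤ 2 ^ b := Nat.pow_le_pow_right (by norm_num) hab
      have h2 : 2 ^ (b + 1) ≤ 2 ^ d := Nat.pow_le_pow_right (by norm_num) hlt
      have h3 : 0 < 2 ^ c := Nat.two_pow_pos _
      rw [pow_succ] at h2
      omega
    · exact heq
    · exfalso
      have h1 : 2 ^ c ≤ 2 ^ d := Nat.pow_le_pow_right (by norm_num) hcd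
      have h2 : 2 ^ (d + 1) ≤ 2 ^ b := Nat.pow_le_pow_right (by norm_num) hgt
      have h3 : 0 < 2 ^ a := Nat.two_pow_pos _
      rw [pow_succ] at h2
      omega
  subst hbd
  have : 2 ^ a = 2 ^ c := by omega
  exact ⟨Nat.pow_right_injective (le_refl 2) this, rfl⟩

theorem two_pow_sum_eq (a b c d : ℕ) (h : 2 ^ a + 2 ^ b = 2 ^ c + 2 ^ d) :
    (a = c ∧ b = d) ∨ (a = d ∧ b = c) := by
  rcases le_total a b with hab | hab <;> rcases le_total c d with hcd | hcd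
  · exact Or.inl (two_pow_sum_sorted a b c d hab hcd h)
  · have := two_pow_sum_sorted a b d c hab hcd (by rw [h, add_comm])
    exact Or.inr this
  · have := two_pow_sum_sorted b a c d hab hcd (by rw [← h, add_comm])
    exact Or.inr ⟨this.2, this.1⟩
  · have := two_pow_sum_sorted b a d c hab hcd (by rw [add_comm, h, add_comm])
    exact Or.inl ⟨this.2, this.1⟩

theorem four_mul_lt_two_pow (g : ℕ) (hg : 6 ≤ g) : 4 * g < 2 ^ (g - 1) := by
  induction g, hg using Nat.le_induction with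
  | base => norm_num
  | succ k hk ih =>
    have e : k + 1 - 1 = (k - 1) + 1 := by omega
    rw [e, pow_succ]
    omega

theorem small_check : ∀ n ∈ Finset.Icc 2 8, ∀ e ∈ Finset.Icc 1 n, e ∣ n → e ∣ 2 ^ n - 1 →
    ∀ s ∈ Finset.range n, ∀ s' ∈ Finset.range n, ∀ j ∈ Finset.range n, 0 < s → 0 < s' →
      (((2 ^ n - 1) / e : ℕ) : ℤ) ∣ 2 ^ j + 2 ^ s' - 2 ^ ((s + j) % n) - 1 → s = s' := by
  decide +kernel

theorem e_bound_check : ∀ n ∈ Finset.Icc 9 20, ∀ e ∈ Finset.Icc 1 n, e ∣ n → e ∣ 2 ^ n - 1 →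
    e < 2 ^ ((n + 3) / 4 - 1) := by
  decide +kernel

/-- [NT-FOUR] -/
theorem nt_four (n e m : ℕ) (hn : 2 ≤ n) (he : e ∣ n) (hm : m * e = 2 ^ n - 1) (s s' j : ℕ)
    (hs : 0 < s) (hsn : s < n) (hs' : 0 < s') (hs'n : s' < n) (hj : j < n)
    (h : (m : ℤ) ∣ 2 ^ j + 2 ^ s' - 2 ^ ((s + j) % n) - 1) : s = s' := by
  have hnpos : 0 < n := by omega
  have hepos : 0 < e := Nat.pos_of_dvd_of_pos he hnpos
  have hen : e ≤ n := Nat.le_of_dvd hnpos he
  have hpow : 1 ≤ 2 ^ n := Nat.one_le_two_pow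
  have hedvd : e ∣ 2 ^ n - 1 := ⟨m, by rw [← hm, mul_comm]⟩
  have hmeq : m = (2 ^ n - 1) / e := by
    rw [← hm, Nat.mul_div_cancel _ hepos]
  by_cases hsmall : n ≤ 8
  · refine small_check n (Finset.mem_Icc.mpr ⟨hn, hsmall⟩) e (Finset.mem_Icc.mpr ⟨hepos, hen⟩) he hedvd
      s (Finset.mem_range.mpr hsn) s' (Finset.mem_range.mpr hs'n) j (Finset.mem_range.mpr hj) hs hs' ?_
    rw [← hmeq]
    exact h
  push Not at hsmall
  -- the bound on `e`
  have hg : e < 2 ^ ((n + 3) / 4 - 1) := by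
    by_cases h20 : n ≤ 20
    · exact e_bound_check n (Finset.mem_Icc.mpr ⟨by omega, h20⟩) e (Finset.mem_Icc.mpr ⟨hepos, hen⟩)
        he hedvd
    · push Not at h20
      have h1 : 6 ≤ (n + 3) / 4 := by omega
      have h2 := four_mul_lt_two_pow _ h1
      omega
  set t := (s + j) % n with ht_def
  have ht : t < n := Nat.mod_lt _ hnpos
  have ht' : t = if s + j < n then s + j else s + j - n := by
    split_ifs with hlt
    · exact Nat.mod_eq_of_lt hlt
    · rw [ht_def, Nat.mod_eq_sub_mod (by omega)]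
      exact Nat.mod_eq_of_lt (by omega)
  have htj : t ≠ j := by
    rw [ht']; split_ifs <;> omega
  obtain ⟨P, hP, h0, h1, h2, h3⟩ := gap4 n j s' t hj hs'n ht
  -- `m ∣ 2^n - 1` over `ℤ`
  have hmdvd : (m : ℤ) ∣ (2 : ℤ) ^ n - 1 := by
    have : ((2 ^ n - 1 : ℕ) : ℤ) = (2 : ℤ) ^ n - 1 := by
      rw [Nat.cast_sub hpow]; norm_num
    rw [← this, ← hm]
    exact ⟨(e : ℤ), by push_cast; ring⟩
  have hrd : ∀ x, (m : ℤ) ∣ 2 ^ (n - P) * 2 ^ x - 2 ^ rot n P x :=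
    fun x => dvd_trans hmdvd (rot_dvd n P x hP)
  have hdiv : (m : ℤ) ∣ 2 ^ rot n P j + 2 ^ rot n P s' - 2 ^ rot n P t - 2 ^ rot n P 0 := by
    have e1 : (2 : ℤ) ^ rot n P j + 2 ^ rot n P s' - 2 ^ rot n P t - 2 ^ rot n P 0
        = 2 ^ (n - P) * (2 ^ j + 2 ^ s' - 2 ^ t - 1)
          - ((2 ^ (n - P) * 2 ^ j - 2 ^ rot n P j) + (2 ^ (n - P) * 2 ^ s' - 2 ^ rot n P s')
            - (2 ^ (n - P) * 2 ^ t - 2 ^ rot n P t) - (2 ^ (n - P) * 2 ^ 0 - 2 ^ rot n P 0)) := by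
      ring
    rw [e1]
    exact dvd_sub (dvd_mul_of_dvd_right h _)
      (dvd_sub (dvd_sub (dvd_add (hrd j) (hrd s')) (hrd t)) (hrd 0))
  by_cases hz : (2 : ℤ) ^ rot n P j + 2 ^ rot n P s' - 2 ^ rot n P t - 2 ^ rot n P 0 = 0
  · -- the trivial relation
    have hN : 2 ^ rot n P j + 2 ^ rot n P s' = 2 ^ rot n P t + 2 ^ rot n P 0 := by
      have : (2 : ℤ) ^ rot n P j + 2 ^ rot n P s' = 2 ^ rot n P t + 2 ^ rot n P 0 := by linarith
      exact_mod_cast this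
    rcases two_pow_sum_eq _ _ _ _ hN with ⟨hA, hB⟩ | ⟨hA, hB⟩
    · exact absurd (rot_inj n P j t hP hj ht hA).symm htj
    · have hj0 : j = 0 := rot_inj n P j 0 hP hj hnpos hA
      have hst : s' = t := rot_inj n P s' t hP hs'n ht hB
      rw [hst, ht', hj0]
      simp [hsn]
  · -- size
    exfalso
    set q := n - (n + 3) / 4 with hq
    have hb : ∀ x, 4 * rot n P x ≤ 3 * n → (2 : ℤ) ^ rot n P x ≤ 2 ^ q := by
      intro x hx
      apply pow_le_pow_right₀ (by norm_num)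
      omega
    have hp : ∀ x, (1 : ℤ) ≤ 2 ^ rot n P x := fun x => one_le_pow₀ (by norm_num)
    have habs : ((2 : ℤ) ^ rot n P j + 2 ^ rot n P s' - 2 ^ rot n P t - 2 ^ rot n P 0).natAbs
        < 2 ^ (q + 1) := by
      have hu := hb j h1
      have hv := hb s' h2
      have hw := hb t h3
      have hx := hb 0 h0
      have := hp j; have := hp s'; have := hp t; have := hp 0
      have hlt : |(2 : ℤ) ^ rot n P j + 2 ^ rot n P s' - 2 ^ rot n P t - 2 ^ rot n P 0| < 2 ^ (q + 1) := by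
        rw [abs_lt, pow_succ]
        constructor <;> linarith
      have h' : ((((2 : ℤ) ^ rot n P j + 2 ^ rot n P s' - 2 ^ rot n P t - 2 ^ rot n P 0).natAbs : ℕ) : ℤ)
          < ((2 ^ (q + 1) : ℕ) : ℤ) := by
        rw [Int.natCast_natAbs]; exact_mod_cast hlt
      exact_mod_cast h'
    have hmle : m ≤ ((2 : ℤ) ^ rot n P j + 2 ^ rot n P s' - 2 ^ rot n P t - 2 ^ rot n P 0).natAbs := by
      apply Nat.le_of_dvd (Int.natAbs_pos.mpr hz)
      have := Int.natAbs_dvd_natAbs.mpr hdiv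
      simpa using this
    have hm1 : m + 1 ≤ 2 ^ (q + 1) := by omega
    have he1 : e + 1 ≤ 2 ^ ((n + 3) / 4 - 1) := hg
    have hprod : (m + 1) * (e + 1) ≤ 2 ^ (q + 1) * 2 ^ ((n + 3) / 4 - 1) := Nat.mul_le_mul hm1 he1
    rw [← pow_add] at hprod
    have hexp : q + 1 + ((n + 3) / 4 - 1) = n := by omega
    rw [hexp] at hprod
    have : (m + 1) * (e + 1) = m * e + m + e + 1 := by ring
    rw [this, hm] at hprod
    omega

end Cfsg.Agent.Lib.Helper50.Suz2
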