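import Cfsg.Agent.Lib.Helper85.Suz2Defs

/-!
# SUZ2-[B7] (helper85's sheet SUZ2_SHEET.md, S3776/S3797), relative form: helper50

`CHyp.absurd_of`: the statement of `[B7] CHyp.absurd` of `SUZ2_SKEL.lean.txt` with the modules `[B0]`-`[B6]`
taken as hypotheses (verbatim the skeleton statements, universally quantified).  The final `CHyp.absurd` is
`CHyp.absurd_of` applied to the landed modules.

Proof (sheet (B7)): a pure `g'` with nonzero coordinate exists ([B0], [B1], [B2]); [B4] gives `D_τ = F`, [B5] gives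
`C_P(E) ≤ E`, [B6] the form `β`.  For `g` pure at `τ`, `h` pure at `τ'` with `β(g,h) = v ≠ 0`: `β(g, ·)` takes the values
`0, v` only (`Fix τ = F_2`) and `β(g,h') ≠ 0` forces `c τ' h' = v / τ' v`; additivity in `h'` over `D_τ' = F` (at least
`4` elements) is contradictory.  So `β = 0` on pure pairs, hence everywhere (every element is a product of pure ones
modulo `C_P(E) ≤ E`), so all commutators lie in `Z0`, the pure `g'` lies in `E`, which is abelian: all its coordinates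
vanish.
-/

set_option autoImplicit false
set_option linter.unusedSectionVars false
set_option linter.unusedVariables false

namespace Cfsg.Agent.Lib.Helper50.Suz2

open Cfsg.Agent.Lib.Helper19.Suz Cfsg.Agent.Lib.Helper85.Suz2

universe u

variable {P : Type u} [Group P] {Y : Subgroup (MulAut P)}
variable {F : Type} [Field F] [Fintype F] {aZ : P → F} {κ : MulAut P → F}
  {σ : MulAut P → (F ≃+* F)} {c : (F ≃+* F) → P → F} {ξ : MulAut P} {n e : ℕ}

theorem c_one_eq (H : CHyp P Y F aZ κ σ c) (τ : F ≃+* F) : c τ 1 = 0 := by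
  have h := H.c_mul τ 1 1
  rw [one_mul] at h
  linear_combination -h

theorem c_inv_eq (H : CHyp P Y F aZ κ σ c) (τ : F ≃+* F) (x : P) : c τ x⁻¹ = - c τ x := by
  have h := H.c_mul τ x x⁻¹
  rw [mul_inv_cancel, c_one_eq H] at h
  linear_combination -h

theorem isPure_mul (H : CHyp P Y F aZ κ σ c) {τ : F ≃+* F} {g h : P} (hg : IsPure c τ g)
    (hh : IsPure c τ h) : IsPure c τ (g * h) := by
  intro τ' hτ'
  rw [H.c_mul, hg τ' hτ', hh τ' hτ', add_zero]

theorem aZ_one_eq (H : CHyp P Y F aZ κ σ c) : aZ 1 = 0 := by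
  have h := H.zc.aZ_mul 1 (Subgroup.one_mem _) 1 (Subgroup.one_mem _)
  rw [one_mul] at h
  linear_combination -h

theorem bet_eq_zero_of_mem_Nsub (H : CHyp P Y F aZ κ σ c) {x : P} (hx : x ∈ Nsub P) (y : P) :
    bet aZ x y = 0 := by
  have h1 : x⁻¹ * y⁻¹ * x * y ∈ Z0 P := (mem_Nsub.mp hx).2 y
  have h2 : (x⁻¹ * y⁻¹ * x * y) * (x⁻¹ * y⁻¹ * x * y) = 1 := (mem_Z0.mp h1).2
  unfold bet
  rw [h2]; exact aZ_one_eq H

/-- every element is a product of pure elements: induction principle -/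
theorem pure_induction (H : CHyp P Y F aZ κ σ c)
    (B2 : ∀ (g : P) (τ₀ : F ≃+* F), ∃ g' : P, c τ₀ g' = c τ₀ g ∧ IsPure c τ₀ g')
    (T : P → Prop) (hpure : ∀ (τ : F ≃+* F) (g : P), IsPure c τ g → T g)
    (hmul : ∀ x y, T x → T y → T (x * y)) : ∀ x, T x := by
  classical
  have key : ∀ s : Finset (F ≃+* F), ∀ x : P, (∀ τ, τ ∉ s → c τ x = 0) → T x := by
    intro s
    induction s using Finset.induction_on with
    | empty =>
      intro x hx
      exact hpure 1 x (fun τ' _ => hx τ' (Finset.notMem_empty _))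
    | insert τ s hτs ih =>
      intro x hx
      obtain ⟨g', hg'1, hg'2⟩ := B2 x τ
      have hx' : T (x * g'⁻¹) := by
        apply ih
        intro τ' hτ'
        rw [H.c_mul, c_inv_eq H]
        by_cases hττ' : τ' = τ
        · rw [hττ', hg'1]; ring
        · have h1 : c τ' x = 0 := hx τ' (by simp [Finset.mem_insert, hττ', hτ'])
          rw [h1, hg'2 τ' hττ']; ring
      have hxe : x = (x * g'⁻¹) * g' := by group
      rw [hxe]
      exact hmul _ _ hx' (hpure τ g' hg'2)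
  intro x
  exact key Finset.univ x (fun τ hτ => absurd (Finset.mem_univ τ) hτ)

/-- `β` vanishes on pairs of pure elements -/
theorem bet_pure_pure (H : CHyp P Y F aZ κ σ c)
    (hcard : 4 ≤ Fintype.card F)
    (B0 : ∀ g : P, (∀ τ, c τ g = 0) ↔ ∀ a ∈ Nsub P, a * g = g * a)
    (B1 : ∀ g : P, c 1 g = 0)
    (B3 : ∀ (τ : F ≃+* F) (g : P), IsPure c τ g → c τ g ≠ 0 → g * g ∈ Z0 P)
    (B4 : ∀ (τ : F ≃+* F), τ ≠ 1 → ∀ (g₀ : P), IsPure c τ g₀ → c τ g₀ ≠ 0 →
      (∀ x : F, τ x = x → x = 0 ∨ x = 1) ∧ ∀ u : F, ∃ g : P, IsPure c τ g ∧ c τ g = u)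
    (hCE : ∀ x : P, (∀ a ∈ Nsub P, a * x = x * a) → x ∈ Nsub P)
    (hadd : ∀ x x' y : P, bet aZ (x * x') y = bet aZ x y + bet aZ x' y)
    (hsymm : ∀ x y : P, bet aZ x y = bet aZ y x)
    (hfix : ∀ (τ : F ≃+* F) (g : P), IsPure c τ g → g * g ∈ Z0 P →
      ∀ y : P, c τ g * τ (bet aZ g y) = bet aZ g y)
    {τ τ' : F ≃+* F} {g h : P} (hg : IsPure c τ g) (hh : IsPure c τ' h) : bet aZ g h = 0 := by
  -- a pure element with zero coordinate lies in `E`
  have hzero : ∀ (τ : F ≃+* F) (g : P), IsPure c τ g → c τ g = 0 → g ∈ Nsub P := by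
    intro τ g hg h0
    apply hCE
    apply (B0 g).mp
    intro τ''
    by_cases h : τ'' = τ
    · rw [h]; exact h0
    · exact hg τ'' h
  by_cases hg0 : c τ g = 0
  · exact bet_eq_zero_of_mem_Nsub H (hzero τ g hg hg0) h
  by_cases hh0 : c τ' h = 0
  · rw [hsymm]; exact bet_eq_zero_of_mem_Nsub H (hzero τ' h hh hh0) g
  -- both coordinates nonzero
  have hτ1 : τ ≠ 1 := by rintro rfl; exact hg0 (B1 g)
  have hτ'1 : τ' ≠ 1 := by rintro rfl; exact hh0 (B1 h)
  obtain ⟨hFix, -⟩ := B4 τ hτ1 g hg hg0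
  obtain ⟨-, hfull⟩ := B4 τ' hτ'1 h hh hh0
  have hgg : g * g ∈ Z0 P := B3 τ g hg hg0
  have hsq : ∀ h' : P, IsPure c τ' h' → h' * h' ∈ Z0 P := by
    intro h' hh'
    by_cases h0 : c τ' h' = 0
    · exact (mem_Nsub.mp (hzero τ' h' hh' h0)).1
    · exact B3 τ' h' hh' h0
  by_contra hv
  have hgv : c τ g * τ (bet aZ g h) = bet aZ g h := hfix τ g hg hgg h
  have hτv : τ (bet aZ g h) ≠ 0 := fun h0 => hv ((map_eq_zero_iff τ τ.injective).mp h0)
  have hτ'v : τ' (bet aZ g h) ≠ 0 := fun h0 => hv ((map_eq_zero_iff τ' τ'.injective).mp h0)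
  -- `β(g, ·)` takes only the values `0` and `v`
  have hval : ∀ y : P, bet aZ g y = 0 ∨ bet aZ g y = bet aZ g h := by
    intro y
    by_cases hw : bet aZ g y = 0
    · exact Or.inl hw
    · right
      have hgw : c τ g * τ (bet aZ g y) = bet aZ g y := hfix τ g hg hgg y
      have h1 : τ (bet aZ g y * (bet aZ g h)⁻¹) = bet aZ g y * (bet aZ g h)⁻¹ := by
        rw [map_mul, map_inv₀, ← div_eq_mul_inv, ← div_eq_mul_inv, div_eq_div_iff hτv hv]
        have h2 : c τ g * (τ (bet aZ g y) * bet aZ g h) = c τ g * (bet aZ g y * τ (bet aZ g h)) := by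
          calc c τ g * (τ (bet aZ g y) * bet aZ g h)
              = (c τ g * τ (bet aZ g y)) * bet aZ g h := by ring
            _ = bet aZ g y * bet aZ g h := by rw [hgw]
            _ = bet aZ g y * (c τ g * τ (bet aZ g h)) := by rw [hgv]
            _ = c τ g * (bet aZ g y * τ (bet aZ g h)) := by ring
        exact mul_left_cancel₀ hg0 h2
      rcases hFix _ h1 with h2 | h2
      · exfalso
        rcases mul_eq_zero.mp h2 with h3 | h3
        · exact hw h3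
        · exact hv (inv_eq_zero.mp h3)
      · calc bet aZ g y = bet aZ g y * (bet aZ g h)⁻¹ * bet aZ g h :=
              (inv_mul_cancel_right₀ hv _).symm
          _ = bet aZ g h := by rw [h2, one_mul]
  -- the forced value of the coordinate
  have hforce : ∀ h' : P, IsPure c τ' h' → bet aZ g h' ≠ 0 →
      c τ' h' * τ' (bet aZ g h) = bet aZ g h := by
    intro h' hh' hne
    have h1 : bet aZ g h' = bet aZ g h := (hval h').resolve_left hne
    have h2 := hfix τ' h' hh' (hsq h' hh') g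
    rw [← hsymm g h', h1] at h2
    exact h2
  have hch : c τ' h * τ' (bet aZ g h) = bet aZ g h := hforce h hh hv
  obtain ⟨u, hu0, hu1⟩ : ∃ u : F, u ≠ 0 ∧ u ≠ c τ' h := by
    classical
    by_contra hcon
    push Not at hcon
    have hsub : (Finset.univ : Finset F) ⊆ {0, c τ' h} := by
      intro u _
      by_cases hu : u = 0
      · simp [hu]
      · simp [hcon u hu]
    have h1 := Finset.card_le_card hsub
    have h2 : ({0, c τ' h} : Finset F).card ≤ 2 := Finset.card_le_two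
    rw [Finset.card_univ] at h1
    omega
  obtain ⟨h₁, hh₁, hch₁⟩ := hfull u
  have hb1 : bet aZ g h₁ = 0 := by
    by_contra hne
    have h3 := hforce h₁ hh₁ hne
    apply hu1
    rw [← hch₁]
    exact mul_right_cancel₀ hτ'v (h3.trans hch.symm)
  have hh₂ : IsPure c τ' (h * h₁) := isPure_mul H hh hh₁
  have hb2 : bet aZ g (h * h₁) = bet aZ g h := by
    rw [hsymm g (h * h₁), hadd, ← hsymm g h, ← hsymm g h₁, hb1, add_zero]
  have hne2 : bet aZ g (h * h₁) ≠ 0 := by rw [hb2]; exact hv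
  have h3 := hforce (h * h₁) hh₂ hne2
  rw [H.c_mul, hch₁] at h3
  have h4 : u * τ' (bet aZ g h) = 0 := by linear_combination h3 - hch
  rcases mul_eq_zero.mp h4 with h5 | h5
  · exact hu0 h5
  · exact hτ'v h5

/-- **[B7], relative to [B0]-[B6]** (the hypotheses `B0`..`B6` are the skeleton statements of those modules). -/
theorem CHyp.absurd_of (H : CHyp P Y F aZ κ σ c) (L : LamHyp P Y F κ σ ξ n e)
    (hCab : ∀ x y : P, (∀ a ∈ Nsub P, a * x = x * a) → (∀ a ∈ Nsub P, a * y = y * a) → x * y = y * x)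
    (hnc : ∃ g : P, ∃ a ∈ Nsub P, a * g ≠ g * a)
    (B0 : ∀ g : P, (∀ τ, c τ g = 0) ↔ ∀ a ∈ Nsub P, a * g = g * a)
    (B1 : ∀ g : P, c 1 g = 0)
    (B2 : ∀ (g : P) (τ₀ : F ≃+* F), ∃ g' : P, c τ₀ g' = c τ₀ g ∧ IsPure c τ₀ g')
    (B3 : ∀ (τ : F ≃+* F) (g : P), IsPure c τ g → c τ g ≠ 0 →
      (∀ x : P, (∀ a ∈ Nsub P, a * x = x * a) → x * g = g * x → x ∈ Z0 P) ∧
      g * g ∈ Z0 P ∧
      ∃ v : F, v ≠ 0 ∧ c τ g * τ v = v)
    (B4 : ∀ (τ : F ≃+* F), τ ≠ 1 → ∀ (g₀ : P), IsPure c τ g₀ → c τ g₀ ≠ 0 →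
      (∀ x : F, τ x = x → x = 0 ∨ x = 1) ∧ ∀ u : F, ∃ g : P, IsPure c τ g ∧ c τ g = u)
    (B5 : 4 ≤ Fintype.card F → ∀ (τ : F ≃+* F), (∀ u : F, ∃ g : P, IsPure c τ g ∧ c τ g = u) →
      ∀ x : P, (∀ a ∈ Nsub P, a * x = x * a) → x ∈ Nsub P)
    (B6 : (∀ x : P, (∀ a ∈ Nsub P, a * x = x * a) → x ∈ Nsub P) →
      (∀ x y : P, x⁻¹ * y⁻¹ * x * y ∈ Nsub P) ∧
      (∀ x x' y : P, bet aZ (x * x') y = bet aZ x y + bet aZ x' y) ∧
      (∀ x y : P, bet aZ x y = bet aZ y x) ∧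
      (∀ (τ : F ≃+* F) (g : P), IsPure c τ g → g * g ∈ Z0 P →
        ∀ y : P, c τ g * τ (bet aZ g y) = bet aZ g y) ∧
      (∀ x y : P, bet aZ x y = 0 → x⁻¹ * y⁻¹ * x * y ∈ Z0 P)) : False := by
  obtain ⟨g, a, ha, hag⟩ := hnc
  have hcard : 4 ≤ Fintype.card F := by
    rw [L.card]
    calc 4 = 2 ^ 2 := by norm_num
      _ ≤ 2 ^ n := Nat.pow_le_pow_right (by norm_num) L.two_le
  have h1 : ¬ ∀ τ, c τ g = 0 := fun h => hag ((B0 g).mp h a ha)
  push Not at h1
  obtain ⟨τ₀, hτ₀⟩ := h1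
  have hτ₀1 : τ₀ ≠ 1 := by rintro rfl; exact hτ₀ (B1 g)
  obtain ⟨g', hg'1, hg'2⟩ := B2 g τ₀
  have hg'ne : c τ₀ g' ≠ 0 := by rw [hg'1]; exact hτ₀
  obtain ⟨-, hfull⟩ := B4 τ₀ hτ₀1 g' hg'2 hg'ne
  have hCE : ∀ x : P, (∀ a ∈ Nsub P, a * x = x * a) → x ∈ Nsub P :=
    fun x hx => B5 hcard τ₀ hfull x hx
  obtain ⟨-, hadd, hsymm, hfix, hz⟩ := B6 hCE
  have hpp : ∀ (τ τ' : F ≃+* F) (g h : P), IsPure c τ g → IsPure c τ' h → bet aZ g h = 0 :=
    fun τ τ' g h hg hh =>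
      bet_pure_pure H hcard B0 B1 (fun τ g hp hne => (B3 τ g hp hne).2.1) B4 hCE hadd hsymm hfix hg hh
  have h1 : ∀ x : P, ∀ (τ' : F ≃+* F) (h : P), IsPure c τ' h → bet aZ x h = 0 := by
    apply pure_induction H B2 (fun x => ∀ (τ' : F ≃+* F) (h : P), IsPure c τ' h → bet aZ x h = 0)
    · intro τ g hg τ' h hh; exact hpp τ τ' g h hg hh
    · intro x y hx hy τ' h hh
      rw [hadd, hx τ' h hh, hy τ' h hh, add_zero]
  have h2 : ∀ y x : P, bet aZ x y = 0 := by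
    apply pure_induction H B2 (fun y => ∀ x : P, bet aZ x y = 0)
    · intro τ h hh x; exact h1 x τ h hh
    · intro y y' hy hy' x
      rw [hsymm x (y * y'), hadd, ← hsymm x y, ← hsymm x y', hy x, hy' x, add_zero]
  have hcomm : ∀ x y : P, x⁻¹ * y⁻¹ * x * y ∈ Z0 P := fun x y => hz x y (h2 y x)
  have hg'E : g' ∈ Nsub P := mem_Nsub.mpr ⟨(B3 τ₀ g' hg'2 hg'ne).2.1, fun y => hcomm g' y⟩
  have h3 : ∀ τ, c τ g' = 0 := (B0 g').mpr (fun a ha => H.Eab a ha g' hg'E)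
  exact hg'ne (h3 τ₀)

end Cfsg.Agent.Lib.Helper50.Suz2
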