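import Cfsg.Agent.Lib.Helper37.Suz2B3
import Cfsg.Agent.Lib.Helper50.Suz2.B7Of

/-!
# SUZ2-[B5] `CHyp.cent_le_N` (helper85's sheet SUZ2_SHEET.md, S3776/S3797): helper50 (hedge)

`C := C_P(E)` (abelian by `hCab`), `E = Nsub P`.  A pure `g` with nonzero coordinate has `C_C(g) = Z0` and `g² ∈ Z0`
([B3], helper37), so `x · x^g ∈ C_C(g) = Z0` for `x ∈ C`: `g` inverts `C` modulo `Z0`.  Three pure elements
`g₁, g₂, g₁ g₂` with nonzero coordinates (`|F| ≥ 4`, `D_τ = F`) give `x² ∈ Z0`.  Finally `x² = a²` with `a ∈ E`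
(`α_surj`), `(x a⁻¹)² = 1`, so `x ∈ a Z0 ⊆ E`.
-/

set_option autoImplicit false
set_option linter.unusedSectionVars false
set_option linter.unusedVariables false

namespace Cfsg.Agent.Lib.Helper50.Suz2

open Cfsg.Agent.Lib.Helper19.Suz Cfsg.Agent.Lib.Helper85.Suz2 Cfsg.Agent.Lib.Helper37.Suz2

universe u

variable {P : Type u} [Group P] {Y : Subgroup (MulAut P)}
variable {F : Type} [Field F] [Fintype F] {aZ : P → F} {κ : MulAut P → F}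
  {σ : MulAut P → (F ≃+* F)} {c : (F ≃+* F) → P → F}

/-- the centralizer of `Nsub P` is stable under conjugation -/
theorem cent_conj (x g : P) (hx : ∀ a ∈ Nsub P, a * x = x * a) :
    ∀ a ∈ Nsub P, a * (g⁻¹ * x * g) = (g⁻¹ * x * g) * a := by
  intro a ha
  have h1 : g * a * g⁻¹ ∈ Nsub P := Nsub_normal.conj_mem a ha g
  have h2 := hx _ h1
  calc a * (g⁻¹ * x * g) = g⁻¹ * ((g * a * g⁻¹) * x) * g := by group
    _ = g⁻¹ * (x * (g * a * g⁻¹)) * g := by rw [h2]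
    _ = (g⁻¹ * x * g) * a := by group

theorem cent_mul (x y : P) (hx : ∀ a ∈ Nsub P, a * x = x * a) (hy : ∀ a ∈ Nsub P, a * y = y * a) :
    ∀ a ∈ Nsub P, a * (x * y) = (x * y) * a := by
  intro a ha
  rw [← mul_assoc, hx a ha, mul_assoc, hy a ha, mul_assoc]

/-- a pure element with nonzero coordinate inverts `C_P(E)` modulo `Z0` -/
theorem pure_inverts (H : CHyp P Y F aZ κ σ c)
    (hCab : ∀ x y : P, (∀ a ∈ Nsub P, a * x = x * a) → (∀ a ∈ Nsub P, a * y = y * a) → x * y = y * x)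
    {τ : F ≃+* F} {g : P} (hp : IsPure c τ g) (hne : c τ g ≠ 0)
    (x : P) (hx : ∀ a ∈ Nsub P, a * x = x * a) : x * (g⁻¹ * x * g) ∈ Z0 P := by
  have hA := cent_conj x g hx
  have hgg : g * g ∈ Z0 P := CHyp.pure_sq H hp hne
  have hggc : ∀ y : P, y * (g * g) = (g * g) * y :=
    fun y => Subgroup.mem_center_iff.mp (mem_Z0.mp hgg).1 y
  apply CHyp.pure_cent H hp hne _ (cent_mul _ _ hx hA)
  have hxA : x * (g⁻¹ * x * g) = (g⁻¹ * x * g) * x := hCab _ _ hx hA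
  have h1 : g⁻¹ * (g⁻¹ * x * g) * g = x := by
    have h2 : g⁻¹ * (g⁻¹ * x * g) * g = (g * g)⁻¹ * (x * (g * g)) := by group
    rw [h2, hggc x]; group
  calc x * (g⁻¹ * x * g) * g = (g⁻¹ * x * g) * x * g := by rw [hxA]
    _ = g * (g⁻¹ * (g⁻¹ * x * g) * g) * (g⁻¹ * x * g) := by group
    _ = g * (x * (g⁻¹ * x * g)) := by rw [h1]; group

/-- squares of `C_P(E)` lie in `Z0` -/
theorem cent_sq (H : CHyp P Y F aZ κ σ c)
    (hCab : ∀ x y : P, (∀ a ∈ Nsub P, a * x = x * a) → (∀ a ∈ Nsub P, a * y = y * a) → x * y = y * x)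
    (hcard : 4 ≤ Fintype.card F)
    {τ : F ≃+* F} (hfull : ∀ u : F, ∃ g : P, IsPure c τ g ∧ c τ g = u)
    (x : P) (hx : ∀ a ∈ Nsub P, a * x = x * a) : x * x ∈ Z0 P := by
  have hchar := H.zc.char2
  obtain ⟨u2, hu20, hu21⟩ : ∃ u : F, u ≠ 0 ∧ u ≠ 1 := by
    classical
    by_contra hcon
    push Not at hcon
    have hsub : (Finset.univ : Finset F) ⊆ {0, 1} := by
      intro u _
      by_cases hu : u = 0
      · simp [hu]
      · simp [hcon u hu]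
    have h1 := Finset.card_le_card hsub
    have h2 : ({0, 1} : Finset F).card ≤ 2 := Finset.card_le_two
    rw [Finset.card_univ] at h1
    omega
  have h12 : (1 : F) + u2 ≠ 0 := by
    intro h
    apply hu21
    have h3 : u2 = -1 := by linear_combination h
    rw [h3, CharTwo.neg_eq]
  obtain ⟨g1, hg1, hc1⟩ := hfull 1
  obtain ⟨g2, hg2, hc2⟩ := hfull u2
  have hg3 : IsPure c τ (g1 * g2) := isPure_mul H hg1 hg2
  have hc3 : c τ (g1 * g2) = 1 + u2 := by rw [H.c_mul, hc1, hc2]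
  have hne1 : c τ g1 ≠ 0 := by rw [hc1]; exact one_ne_zero
  have hne2 : c τ g2 ≠ 0 := by rw [hc2]; exact hu20
  have hne3 : c τ (g1 * g2) ≠ 0 := by rw [hc3]; exact h12
  have hAc := cent_conj x g1 hx
  have hz1 : x * (g1⁻¹ * x * g1) ∈ Z0 P := pure_inverts H hCab hg1 hne1 x hx
  have hz2 : (g1⁻¹ * x * g1) * (g2⁻¹ * (g1⁻¹ * x * g1) * g2) ∈ Z0 P :=
    pure_inverts H hCab hg2 hne2 _ hAc
  have hz3 : x * ((g1 * g2)⁻¹ * x * (g1 * g2)) ∈ Z0 P := pure_inverts H hCab hg3 hne3 x hx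
  have hB : (g1 * g2)⁻¹ * x * (g1 * g2) = g2⁻¹ * (g1⁻¹ * x * g1) * g2 := by group
  rw [hB] at hz3
  have hxA : x * (g1⁻¹ * x * g1) = (g1⁻¹ * x * g1) * x := hCab _ _ hx hAc
  have e1 : x * x = (x * (g2⁻¹ * (g1⁻¹ * x * g1) * g2)) *
      ((g1⁻¹ * x * g1) * (g2⁻¹ * (g1⁻¹ * x * g1) * g2))⁻¹ * (x * (g1⁻¹ * x * g1)) := by
    have h4 : (x * (g2⁻¹ * (g1⁻¹ * x * g1) * g2)) *
        ((g1⁻¹ * x * g1) * (g2⁻¹ * (g1⁻¹ * x * g1) * g2))⁻¹ * (x * (g1⁻¹ * x * g1))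
        = x * ((g1⁻¹ * x * g1)⁻¹ * (x * (g1⁻¹ * x * g1))) := by group
    rw [h4, hxA, inv_mul_cancel_left]
  rw [e1]
  exact Subgroup.mul_mem _ (Subgroup.mul_mem _ hz3 (Subgroup.inv_mem _ hz2)) hz1

/-- **[B5]** `C_P(E) ≤ E` -/
theorem CHyp.cent_le_N (H : CHyp P Y F aZ κ σ c)
    (hCab : ∀ x y : P, (∀ a ∈ Nsub P, a * x = x * a) → (∀ a ∈ Nsub P, a * y = y * a) → x * y = y * x)
    (hcard : 4 ≤ Fintype.card F)
    {τ : F ≃+* F} (hfull : ∀ u : F, ∃ g : P, IsPure c τ g ∧ c τ g = u)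
    (x : P) (hx : ∀ a ∈ Nsub P, a * x = x * a) : x ∈ Nsub P := by
  have hxx : x * x ∈ Z0 P := cent_sq H hCab hcard hfull x hx
  obtain ⟨a, ha, haa⟩ := H.α_surj (aZ (x * x))
  have ha2 : a * a ∈ Z0 P := (mem_Nsub.mp ha).1
  have heq : a * a = x * x := ZCoord.aZ_eq H.zc ha2 hxx haa
  have hax : a * x = x * a := hx a ha
  have hax' : a⁻¹ * x = x * a⁻¹ := by
    calc a⁻¹ * x = a⁻¹ * (x * a) * a⁻¹ := by group
      _ = a⁻¹ * (a * x) * a⁻¹ := by rw [hax]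
      _ = x * a⁻¹ := by group
  have h1 : (x * a⁻¹) * (x * a⁻¹) = 1 := by
    calc (x * a⁻¹) * (x * a⁻¹) = x * (a⁻¹ * x) * a⁻¹ := by group
      _ = x * (x * a⁻¹) * a⁻¹ := by rw [hax']
      _ = (x * x) * (a * a)⁻¹ := by group
      _ = 1 := by rw [heq, mul_inv_cancel]
  have h2 : x * a⁻¹ ∈ Z0 P := H.suz.mem_Z0_iff.mpr h1
  have h3 : x = (x * a⁻¹) * a := by group
  rw [h3]
  exact Subgroup.mul_mem _ (Z0_le_Nsub h2) ha

end Cfsg.Agent.Lib.Helper50.Suz2
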