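import Cfsg.Agent.Lib.Helper50.Suz2.B7Of
import Cfsg.Agent.Lib.Helper37.Suz2B2Fin
import Cfsg.Agent.Lib.Helper37.Suz2B3
import Cfsg.Agent.Lib.Helper65.Suz2B4
import Cfsg.Agent.Lib.Helper36.Suz2B5
import Cfsg.Agent.Lib.Helper36.Suz2B6

/-!
# SUZ2-[B7] `CHyp.absurd` (helper85's sheet SUZ2_SHEET.md, S3776/S3797): helper50

Absolute form: `CHyp.absurd_of` (B7Of.lean) applied to the landed modules [B0]-[B3] (helper37), [B4] (helper65),
[B5], [B6] (helper36).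
-/

set_option autoImplicit false

namespace Cfsg.Agent.Lib.Helper50.Suz2

open Cfsg.Agent.Lib.Helper19.Suz Cfsg.Agent.Lib.Helper85.Suz2

universe u

variable {P : Type u} [Group P] {Y : Subgroup (MulAut P)}
variable {F : Type} [Field F] [Fintype F] {aZ : P → F} {κ : MulAut P → F}
  {σ : MulAut P → (F ≃+* F)} {c : (F ≃+* F) → P → F} {ξ : MulAut P} {n e : ℕ}

/-- **[B7]** -/
theorem CHyp.absurd (H : CHyp P Y F aZ κ σ c) (L : LamHyp P Y F κ σ ξ n e)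
    (hCab : ∀ x y : P, (∀ a ∈ Nsub P, a * x = x * a) → (∀ a ∈ Nsub P, a * y = y * a) → x * y = y * x)
    (hnc : ∃ g : P, ∃ a ∈ Nsub P, a * g ≠ g * a) : False :=
  CHyp.absurd_of H L hCab hnc
    (fun g => Cfsg.Agent.Lib.Helper37.Suz2.CHyp.coord_zero_iff H g)
    (fun g => Cfsg.Agent.Lib.Helper37.Suz2.CHyp.c_one H L g)
    (fun g τ₀ => Cfsg.Agent.Lib.Helper37.Suz2.CHyp.exists_pure_part H L g τ₀)
    (fun _ _ hp hne => Cfsg.Agent.Lib.Helper37.Suz2.CHyp.pure_facts H hp hne)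
    (fun _ hτ _ hp hne => Cfsg.Agent.Lib.Helper65.Suz2.CHyp.pure_full H hτ hp hne)
    (fun hcard _ hfull x hx => Cfsg.Agent.Lib.Helper36.Suz2.CHyp.cent_le_N H hCab hcard hfull x hx)
    (fun hCE => Cfsg.Agent.Lib.Helper36.Suz2.CHyp.bet_facts H hCE)

end Cfsg.Agent.Lib.Helper50.Suz2
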